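import Mathlib.Algebra.Group.Defs
import Mathlib.Algebra.Module.Basic
import Mathlib.Algebra.Module.LinearMap.Defs
import Mathlib.Tactic.Abel

/-!
# The abelian extension defined by a symmetric 2-cocycle
-/

set_option autoImplicit false

universe u v

namespace Groth.Agent.SymCocycle

variable {P : Type u} {M : Type v} [AddCommGroup P] [AddCommGroup M]

/-- The set underlying the extension of `P` by `M` given by a cocycle. -/
@[ext] structure Twisted (h : P → P → M) where
  /-- The coordinate in `M`. -/
  m : M
  /-- The coordinate in `P`. -/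
  p : P

theorem exists_extension (h : P → P → M) (hcoc : ∀ a b c, h (a + b) c + h a b = h a (b + c) + h b c)
    (hsymm : ∀ a b, h a b = h b a) :
    ∃ (E : Type max u v) (_ : AddCommGroup E) (i : M →ₗ[ℤ] E), Function.Injective i ∧
      ∃ s : P → E, ∀ a b, s a + s b = i (h a b) + s (a + b) := by
  have h0 : ∀ c, h 0 c = h 0 0 := fun c => by
    have := hcoc 0 0 c
    simp only [zero_add] at this
    exact (add_right_cancel (b := h 0 c) (by rw [← this, add_comm])).symm
  letI : Add (Twisted h) := ⟨fun x y => ⟨x.m + y.m + h x.p y.p, x.p + y.p⟩⟩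
  letI : Zero (Twisted h) := ⟨⟨-h 0 0, 0⟩⟩
  letI : Neg (Twisted h) := ⟨fun x => ⟨-x.m - h x.p (-x.p) - h 0 0, -x.p⟩⟩
  have hadd : ∀ x y : Twisted h, x + y = ⟨x.m + y.m + h x.p y.p, x.p + y.p⟩ := fun _ _ => rfl
  letI G : AddCommGroup (Twisted h) :=
    { add_assoc := fun x y z => by
        simp only [hadd]
        refine Twisted.ext ?_ (add_assoc _ _ _)
        calc x.m + y.m + h x.p y.p + z.m + h (x.p + y.p) z.p
            = x.m + y.m + z.m + (h (x.p + y.p) z.p + h x.p y.p) := by abel
          _ = _ := by rw [hcoc]; abel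
      zero_add := fun x => Twisted.ext (show -h 0 0 + x.m + h 0 x.p = x.m by rw [h0 x.p]; abel) (zero_add _)
      add_zero := fun x => Twisted.ext
        (show x.m + -h 0 0 + h x.p 0 = x.m by rw [hsymm x.p 0, h0 x.p]; abel) (add_zero _)
      nsmul := nsmulRec
      zsmul := zsmulRec
      neg_add_cancel := fun x => Twisted.ext
        (show -x.m - h x.p (-x.p) - h 0 0 + x.m + h (-x.p) x.p = -h 0 0 by rw [hsymm (-x.p)]; abel)
        (neg_add_cancel _)
      add_comm := fun x y => by
        simp only [hadd]
        exact Twisted.ext (by rw [hsymm, add_comm x.m]) (add_comm _ _) }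
  let i : M →+ Twisted h :=
    { toFun := fun m => ⟨m - h 0 0, 0⟩
      map_zero' := Twisted.ext (zero_sub _) rfl
      map_add' := fun a b => Twisted.ext
        (show a + b - h 0 0 = a - h 0 0 + (b - h 0 0) + h 0 0 by abel) (zero_add _).symm }
  refine ⟨Twisted h, G, i.toIntLinearMap, fun a b e => sub_left_injective (congrArg Twisted.m e),
    fun p => ⟨0, p⟩, fun a b => Twisted.ext ?_ (zero_add _).symm⟩
  change 0 + 0 + h a b = h a b - h 0 0 + 0 + h 0 (a + b)
  rw [h0 (a + b)]
  abel

end Groth.Agent.SymCocycle
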